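import Groth.Agent.H29Frob.Root
import Groth.Agent.H29Disc.Degree
import Groth.Agent.H29Curve.Morphism
import Groth.Agent.H29DoubleCover.Unique
import Groth.Agent.H23Geom.Criteria
import Groth.Agent.H26LocSym.FunField
import Groth.Agent.H22Alg.CycBasic

/-!
# Finite morphisms of smooth curves do not lower the genus
-/

set_option autoImplicit false
set_option linter.style.haveILetI false

universe u

open CategoryTheory CategoryTheory.Limits AlgebraicGeometry TopologicalSpace FrobSch IntermediateField

namespace Groth.Agent.H29Frob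

attribute [local instance 10000] H10Coh.hasSheafifyAb H10Coh.hasWeakSheafifyAb H10Coh.hasExtAb H10Coh.enoughInjAb

/-- An element that is not a `p`-th power separates a function field over a perfect field. -/
theorem isSeparable_of_not_pow {k K : Type u} [Field k] [Field K] [Algebra k K] [PerfectField k]
    (hK : FunFld.IsFunctionField k K) (p : ℕ) [Fact p.Prime] [CharP k p] {x : K} (hx : ∀ y, y ^ p ≠ x) :
    Algebra.IsSeparable (adjoin k ({x} : Set K)) K := by
  haveI : CharP K p := charP_of_injective_algebraMap (algebraMap k K).injective p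
  haveI : ExpChar k p := ExpChar.prime Fact.out
  haveI : ExpChar K p := ExpChar.prime Fact.out
  haveI : PerfectRing k p := PerfectField.toPerfectRing p
  have hg := H23Geom.isGeometric_of_perfectField hK
  refine H23Geom.isSeparable_of_D_ne_zero hK hg fun hD => ?_
  obtain ⟨t, -, ht⟩ := H23Geom.exists_separating hK hg
  haveI := ht
  have hM := H23Geom.mem_M_of_D_eq_zero p hK t hD
  suffices ∀ z ∈ adjoin k (Set.range fun y : K => y ^ p), ∃ y, y ^ p = z by
    obtain ⟨y, hy⟩ := this x hM
    exact hx y hy
  intro z hz
  induction hz using IntermediateField.adjoin_induction with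
  | mem w hw => exact hw
  | algebraMap c =>
    exact ⟨algebraMap k K ((frobeniusEquiv k p).symm c), by rw [← map_pow, frobeniusEquiv_symm_pow_p]⟩
  | add a b _ _ ha hb =>
    obtain ⟨a', rfl⟩ := ha
    obtain ⟨b', rfl⟩ := hb
    exact ⟨a' + b', add_pow_char a' b' p⟩
  | inv a _ ha =>
    obtain ⟨a', rfl⟩ := ha
    exact ⟨a'⁻¹, inv_pow a' p⟩
  | mul a b _ _ ha hb =>
    obtain ⟨a', rfl⟩ := ha
    obtain ⟨b', rfl⟩ := hb
    exact ⟨a' * b', mul_pow a' b' p⟩

/-- The genus does not see an automorphism of the ground field. -/
theorem genus_twist {k : Type u} [Field k] (σ : k ≃+* k) {X : Scheme.{u}}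
    (p : X ⟶ Spec (CommRingCat.of k)) [IsProper p] (p' : X ⟶ Spec (CommRingCat.of k))
    (h : p' ≫ Spec.map (CommRingCat.ofHom σ.toRingHom) = p) :
    @Curv2.genus k _ X ⟨p'⟩ = @Curv2.genus k _ X ⟨p⟩ := by
  haveI : IsIso (CommRingCat.ofHom σ.toRingHom) := (ConcreteCategory.isIso_iff_bijective _).2 σ.bijective
  exact @H29DoubleCover.genus_bc k k _ _ σ.toRingHom.toAlgebra X X p _ p' (𝟙 X)
    (IsPullback.of_horiz_isIso ⟨(Category.id_comp p).trans h.symm⟩)

/-- The degree of the extension of function fields of a finite separable morphism is positive. -/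
theorem one_le_finrank {X Y : Scheme.{u}} [IsIntegral X] [IsIntegral Y] [IsLocallyNoetherian Y]
    (f : X ⟶ Y) [IsFinite f] [Flat f] (e : f (genericPoint X) = genericPoint Y)
    (hsep : letI := H29Disc.funAlg f e; Algebra.IsSeparable Y.functionField X.functionField) :
    letI := H29Disc.funAlg f e
    1 ≤ Module.finrank Y.functionField X.functionField := by
  letI := H29Disc.funAlg f e
  obtain ⟨c, hy⟩ := H29Disc.exists_frame (H29Disc.rank_pushO f e hsep) (genericPoint Y)
  by_contra h
  haveI : Nonempty (f ⁻¹ᵁ c.U : X.Opens) := H29Disc.nonempty_preimage f e c.U ⟨_, hy⟩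
  haveI : IsEmpty (Fin (Module.finrank Y.functionField X.functionField)) :=
    ⟨fun i => absurd i.2 (by omega)⟩
  haveI : Subsingleton Γ(X, f ⁻¹ᵁ c.U) :=
    letI := H29Disc.alg f c.U
    (H29Disc.fnBasis c.b).repr.toEquiv.subsingleton
  exact false_of_nontrivial_of_subsingleton Γ(X, f ⁻¹ᵁ c.U)

variable {k : Type u} [Field k] [IsAlgClosed k]

/-- A separable morphism does not lower the genus. -/
theorem genus_le_of_separable {X Y : Scheme.{u}} [IsIntegral X] [IsIntegral Y]
    (p : X ⟶ Spec (CommRingCat.of k)) [IsProper p] [Smooth p] (q : Y ⟶ Spec (CommRingCat.of k)) [IsProper q] [Smooth q]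
    (hX : topologicalKrullDim X = 1) (hY : topologicalKrullDim Y = 1)
    (f : X ⟶ Y) [IsFinite f] (hf : f ≫ q = p) (e : f (genericPoint X) = genericPoint Y)
    (hsep : letI := H29Disc.funAlg f e; Algebra.IsSeparable Y.functionField X.functionField) :
    @Curv2.genus k _ Y ⟨q⟩ ≤ @Curv2.genus k _ X ⟨p⟩ := by
  letI : X.Over (Spec (CommRingCat.of k)) := ⟨p⟩
  letI : Y.Over (Spec (CommRingCat.of k)) := ⟨q⟩
  haveI : IsProper (Y ↘ Spec (CommRingCat.of k)) := ‹IsProper q›
  haveI : IsProper (X ↘ Spec (CommRingCat.of k)) := ‹IsProper p›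
  haveI : GeometricallyConnected p := H22Alg.VarGeom.geometricallyConnected_of_isSepClosed p
  haveI : GeometricallyConnected q := H22Alg.VarGeom.geometricallyConnected_of_isSepClosed q
  haveI : IsLocallyNoetherian Y := LocallyOfFiniteType.isLocallyNoetherian q
  haveI : Flat f := H29Curve.flat_of_dominant_normal f e
    (fun y => (H28Neron.isNormalScheme_of_smooth q (H29DoubleCover.isNormalScheme_spec_field k) y).2) hY.le
  letI := H29Disc.funAlg f e
  have hf' : f ≫ (Y ↘ Spec (CommRingCat.of k)) = X ↘ Spec (CommRingCat.of k) := hf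
  have hle := H29Disc.euler_le (k := k) f e hY.le hf' hsep
  have hn : (1 : ℤ) ≤ Module.finrank Y.functionField X.functionField := by exact_mod_cast one_le_finrank f e hsep
  rw [H29RR.euler_eq_sub (k := k) hX.le, H29RR.euler_eq_sub (k := k) hY.le,
    H29DoubleCover.finrank_h0_structure p, H29DoubleCover.finrank_h0_structure q] at hle
  change (1 : ℕ) - (Curv2.genus k X : ℤ) ≤ _ * ((1 : ℕ) - (Curv2.genus k Y : ℤ)) at hle
  show Curv2.genus k Y ≤ Curv2.genus k X
  generalize (Module.finrank Y.functionField X.functionField : ℤ) = n at hn hle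
  generalize Curv2.genus k X = a at hle ⊢
  generalize Curv2.genus k Y = b at hle ⊢
  by_contra hab
  push_neg at hab
  have : (b : ℤ) ≥ 1 := by omega
  push_cast at hle
  nlinarith

/-- A finite morphism of smooth proper curves over an algebraically closed field does not lower the genus. -/
theorem genus_le {X Y : Scheme.{u}} [IsIntegral X] [IsIntegral Y]
    (q : Y ⟶ Spec (CommRingCat.of k)) [IsProper q] [Smooth q] (hY : topologicalKrullDim Y = 1)
    (hX : topologicalKrullDim X = 1) :
    ∀ (n : ℕ) (p : X ⟶ Spec (CommRingCat.of k)) [IsProper p] [Smooth p] (f : X ⟶ Y) [IsFinite f],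
      f ≫ q = p → f (genericPoint X) = genericPoint Y → f.residueDegree (genericPoint X) = n →
      @Curv2.genus k _ Y ⟨q⟩ ≤ @Curv2.genus k _ X ⟨p⟩ := by
  intro n
  induction n using Nat.strong_induction_on with
  | _ n ih =>
    intro p _ _ f _ hf e hn
    letI := H26LocSym.constAlg p
    haveI : H26LocSym.Curve p := ⟨inferInstance, inferInstance, hX⟩
    have hK := H26LocSym.isFunctionField p
    letI := H29Disc.funAlg f e
    letI : Algebra k Y.functionField := (LocSym.constFun q).toAlgebra
    haveI hT : IsScalarTower k Y.functionField X.functionField := IsScalarTower.of_algebraMap_eq fun c => by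
      haveI : Nonempty (⊤ : Y.Opens) := ⟨⟨genericPoint Y, trivial⟩⟩
      haveI : Nonempty (f ⁻¹ᵁ (⊤ : Y.Opens) : X.Opens) := ⟨⟨genericPoint X, trivial⟩⟩
      refine Eq.trans ?_ (H29Disc.funAlg_germ f e ⊤ _).symm
      show X.presheaf.germ ⊤ (genericPoint X) trivial (p.appTop _) = _
      rw [← hf, Scheme.Hom.comp_appTop]
      rfl
    by_cases hsep : Algebra.IsSeparable Y.functionField X.functionField
    · exact genus_le_of_separable p q hX hY f hf e hsep
    have hnosep : ∀ l : Y.functionField,
        ¬ Algebra.IsSeparable (adjoin k ({algebraMap Y.functionField X.functionField l} : Set X.functionField))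
          X.functionField := fun l hl => by
      set E := adjoin k ({algebraMap Y.functionField X.functionField l} : Set X.functionField)
      set φ := IsScalarTower.toAlgHom k Y.functionField X.functionField
      have hE : E ≤ φ.fieldRange := adjoin_le_iff.2 (by
        rintro _ rfl
        exact ⟨l, rfl⟩)
      let ι : E →+* Y.functionField :=
        ((AlgEquiv.ofInjectiveField φ).symm.toAlgHom.comp (inclusion hE)).toRingHom
      have hι : ∀ z : E, φ (ι z) = (z : X.functionField) := fun z =>
        congrArg Subtype.val ((AlgEquiv.ofInjectiveField φ).apply_symm_apply (inclusion hE z))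
      refine hsep ⟨fun z => ?_⟩
      refine (Polynomial.Separable.map (Algebra.IsSeparable.isSeparable E z) (f := ι)).of_dvd
        (minpoly.dvd Y.functionField z ?_)
      rw [Polynomial.aeval_def, Polynomial.eval₂_map,
        show (algebraMap Y.functionField X.functionField).comp ι = algebraMap E X.functionField from RingHom.ext hι,
        ← Polynomial.aeval_def, minpoly.aeval]
    rcases CharP.exists' k with h0 | ⟨ℓ, hℓ, hℓk⟩
    · -- characteristic zero
      exfalso
      haveI : H26LocSym.Curve q := ⟨inferInstance, inferInstance, hY⟩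
      obtain ⟨⟨t, ht, -⟩, -⟩ := H26LocSym.isFunctionField q
      refine hnosep t ?_
      haveI := H23FunFld.finiteDimensional_adjoin hK (y := algebraMap Y.functionField X.functionField t)
        fun halg => ht ((isAlgebraic_algebraMap_iff (algebraMap Y.functionField X.functionField).injective).1 halg)
      haveI : CharZero (adjoin k ({algebraMap Y.functionField X.functionField t} : Set X.functionField)) :=
        charZero_of_injective_algebraMap (algebraMap k _).injective
      infer_instance
    haveI := hℓ
    haveI := hℓk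
    haveI : CharP X.functionField ℓ := charP_of_injective_algebraMap (algebraMap k X.functionField).injective ℓ
    -- all pullbacks are powers
    have hpow : ∀ l : Y.functionField, ∃ y, y ^ ℓ = algebraMap Y.functionField X.functionField l := by
      intro l
      by_contra hl
      push_neg at hl
      exact hnosep l (isSeparable_of_not_pow hK ℓ hl)
    haveI : IsCharP X ℓ := IsCharP.of_hom p ℓ
    haveI : IsCharP (Spec (CommRingCat.of k)) ℓ := inferInstance
    have hNX : ∀ x : X, IsIntegrallyClosed (X.presheaf.stalk x) := fun x =>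
      (H28Neron.isNormalScheme_of_smooth p (H29DoubleCover.isNormalScheme_spec_field k) x).2
    obtain ⟨h, hh⟩ := exists_root (p := ℓ) (fun V hV => by
      rcases isEmpty_or_nonempty V with hV' | hV'
      · haveI : Subsingleton Γ(X, V) := by
          rw [show V = ⊥ from eq_bot_iff.2 fun x hx => hV'.elim' ⟨x, hx⟩]; infer_instance
        exact inferInstance
      · exact H7Lim.isIntegrallyClosed_section hNX hV) f (fun U V le _ hU hV s => by
      have hηV : genericPoint X ∈ V := (genericPoint_spec X).mem_open_set_iff V.2 |>.2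
        ⟨_, trivial, Nonempty.some (α := V) inferInstance |>.2⟩
      haveI : Nonempty U := ⟨⟨_, le hηV⟩⟩
      haveI : Nonempty (f ⁻¹ᵁ U : X.Opens) := ⟨⟨_, le hηV⟩⟩
      obtain ⟨y, hy⟩ := hpow (Y.germToFunctionField U s)
      refine ⟨y, hy.trans ((H29Disc.funAlg_germ f e U s).trans ?_)⟩
      exact (TopCat.Presheaf.germ_res_apply X.presheaf (homOfLE le) (genericPoint X) hηV (f.app U s)).symm)
    -- the twisted structure
    haveI : PerfectRing k ℓ := PerfectField.toPerfectRing ℓ
    let τ := (frobeniusEquiv k ℓ).symm
    haveI : IsIso (CommRingCat.ofHom τ.toRingHom) := (ConcreteCategory.isIso_iff_bijective _).2 τ.bijective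
    let p' := p ≫ Spec.map (CommRingCat.ofHom τ.toRingHom)
    haveI : IsProper p' := inferInstance
    haveI : Smooth p' := inferInstance
    have hp' : frob X ℓ ≫ p' = p := by
      show frob X ℓ ≫ p ≫ _ = p
      rw [frob_comp_assoc, H27Perf.frob_Spec, ← Spec.map_comp,
        show CommRingCat.ofHom τ.toRingHom ≫ CommRingCat.ofHom (powHom ℓ (CommRingCat.of k)
          H27Perf.natCast_eq_zero_of_isCharP_Spec) = 𝟙 _ from CommRingCat.hom_ext
            (RingHom.ext fun c => frobeniusEquiv_symm_pow_p k ℓ c), Spec.map_id, Category.comp_id]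
    have hq' : h ≫ q = p' := cancel_frob (p := ℓ) (by rw [hp', reassoc_of% hh, hf])
    have he' : h (genericPoint X) = genericPoint Y := by
      rw [← e, ← hh, Scheme.Hom.comp_apply, frob_apply]
    haveI : IsProper h := by
      haveI : IsProper (h ≫ q) := by rw [hq']; infer_instance
      exact IsProper.of_comp h q
    letI : X.Over (Spec (CommRingCat.of k)) := ⟨p⟩
    haveI : IsProper (X ↘ Spec (CommRingCat.of k)) := ‹IsProper p›
    haveI := H29RR.isNoetherian_of_proper (k := k) (X := X)
    haveI : JacobsonSpace X := LocallyOfFiniteType.jacobsonSpace p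
    haveI : IsFinite h := H29DoubleCover.isFinite_of_dominant hX.le h (by
      obtain ⟨a, b, hab⟩ := H29DoubleCover.exists_ne_of_isFinite hX f
      refine ⟨a, b, ?_⟩
      rwa [← hh, Scheme.Hom.comp_apply, Scheme.Hom.comp_apply, frob_apply, frob_apply] at hab)
    -- the degree drops
    have hF : (frob X ℓ).residueDegree (genericPoint X) ≠ 1 := by
      intro h1
      haveI := H29CurveDual.isIso_stalkMap_of_residueDegree_one (frob X ℓ) rfl h1
      obtain ⟨t, -, ht⟩ := H23Geom.exists_separating hK (H23Geom.isGeometric_of_perfectField hK)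
      haveI := ht
      obtain ⟨y, hy⟩ := (ConcreteCategory.bijective_of_isIso ((frob X ℓ).stalkMap (genericPoint X))).2 t
      refine H23Geom.D_ne_zero hK (x := t) ?_
      obtain ⟨W, hW, s, rfl⟩ := X.presheaf.exists_germ_eq (x := genericPoint X) y
      rw [← hy]
      erw [Scheme.Hom.germ_stalkMap_apply]
      rw [frob_app]
      erw [map_pow]
      rw [Derivation.leibniz_pow, ← Nat.cast_smul_eq_nsmul X.functionField]
      erw [CharP.cast_eq_zero X.functionField ℓ]
      exact zero_smul _ _
    have hpos : f.residueDegree (genericPoint X) ≠ 0 := by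
      haveI : IsLocallyNoetherian Y := LocallyOfFiniteType.isLocallyNoetherian q
      haveI : Flat f := H29Curve.flat_of_dominant_normal f e
        (fun y => (H28Neron.isNormalScheme_of_smooth q (H29DoubleCover.isNormalScheme_spec_field k) y).2) hY.le
      haveI : IsDominant f := ⟨(dense_iff_closure_eq).2 (Set.eq_univ_of_univ_subset (by
        rw [← (genericPoint_spec Y).def, ← e]
        exact closure_mono (Set.singleton_subset_iff.2 ⟨_, rfl⟩)))⟩
      rw [← H27FibreRank.finrank_genericPoint f (H27FibreRank.preimage_genericPoint p q f hf (hX.trans hY.symm)), ← e]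
      exact Nat.one_le_iff_ne_zero.1 (Scheme.Hom.one_le_finrank_map f _)
    have hmul : f.residueDegree (genericPoint X) =
        h.residueDegree (genericPoint X) * (frob X ℓ).residueDegree (genericPoint X) := by
      rw [← hh, H22Alg.CycBasic.residueDegree_comp, frob_apply]
    have hlt : h.residueDegree (genericPoint X) < n := by
      rw [hmul] at hpos
      have h0 := Nat.mul_ne_zero_iff.1 hpos
      rw [← hn, hmul]
      exact lt_mul_of_one_lt_right (by omega) (by omega)
    calc @Curv2.genus k _ Y ⟨q⟩ ≤ @Curv2.genus k _ X ⟨p'⟩ := ih _ hlt p' h hq' he' rfl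
      _ = @Curv2.genus k _ X ⟨p⟩ := genus_twist (frobeniusEquiv k ℓ) p p' (by
          rw [Category.assoc, ← Spec.map_comp, show CommRingCat.ofHom (frobeniusEquiv k ℓ).toRingHom ≫
            CommRingCat.ofHom τ.toRingHom = 𝟙 _ from CommRingCat.hom_ext
              (RingHom.ext (frobeniusEquiv k ℓ).symm_apply_apply), Spec.map_id, Category.comp_id])

end Groth.Agent.H29Frob
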