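import Groth.Agent.H29Frob.GenusLe

/-!
# Finite morphisms of smooth curves do not lower the genus, over any field
-/

set_option autoImplicit false
set_option linter.style.haveILetI false

universe u

open CategoryTheory CategoryTheory.Limits AlgebraicGeometry TopologicalSpace

namespace Groth.Agent.H29Frob

attribute [local instance 10000] H10Coh.hasSheafifyAb H10Coh.hasWeakSheafifyAb H10Coh.hasExtAb H10Coh.enoughInjAb

/-- A finite morphism of smooth proper geometrically connected curves over a field does not lower the genus. -/
theorem genus_le_field {k : Type u} [Field k] {X Y : Scheme.{u}}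
    (p : X ⟶ Spec (CommRingCat.of k)) [IsProper p] [Smooth p] [GeometricallyConnected p]
    (q : Y ⟶ Spec (CommRingCat.of k)) [IsProper q] [Smooth q] [GeometricallyConnected q]
    (hX : topologicalKrullDim X = 1) (hY : topologicalKrullDim Y = 1)
    (f : X ⟶ Y) [IsFinite f] (hf : f ≫ q = p) :
    @Curv2.genus k _ Y ⟨q⟩ ≤ @Curv2.genus k _ X ⟨p⟩ := by
  let K := AlgebraicClosure k
  let β := Spec.map (CommRingCat.ofHom (algebraMap k K))
  let X' := pullback p β
  let Y' := pullback q β
  let p' : X' ⟶ Spec (CommRingCat.of K) := pullback.snd p β
  let q' : Y' ⟶ Spec (CommRingCat.of K) := pullback.snd q β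
  let g : X' ⟶ Y' := pullback.lift (pullback.fst p β ≫ f) p' (by rw [Category.assoc, hf, pullback.condition])
  haveI : IsProper p' := MorphismProperty.pullback_snd _ _ inferInstance
  haveI : Smooth p' := MorphismProperty.pullback_snd _ _ inferInstance
  haveI : IsProper q' := MorphismProperty.pullback_snd _ _ inferInstance
  haveI : Smooth q' := MorphismProperty.pullback_snd _ _ inferInstance
  haveI : GeometricallyConnected p' := inferInstanceAs (GeometricallyConnected (pullback.snd p β))
  haveI : GeometricallyConnected q' := inferInstanceAs (GeometricallyConnected (pullback.snd q β))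
  haveI : IsIntegral X' := H29DoubleCover.isIntegral_of_smooth_connected p'
  haveI : IsIntegral Y' := H29DoubleCover.isIntegral_of_smooth_connected q'
  have hsq : IsPullback (pullback.fst p β) g f (pullback.fst q β) :=
    IsPullback.of_bot (by
      rw [show g ≫ pullback.snd q β = p' from pullback.lift_snd _ _ _, hf]
      exact IsPullback.of_hasPullback p β)
      (pullback.lift_fst _ _ _).symm (IsPullback.of_hasPullback q β)
  haveI : IsFinite g := MorphismProperty.of_isPullback hsq inferInstance
  have hdX : topologicalKrullDim X' = 1 := (Groth.Agent.S4642.result (K := K) p).trans hX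
  have hdY : topologicalKrullDim Y' = 1 := (Groth.Agent.S4642.result (K := K) q).trans hY
  haveI : JacobsonSpace X' := LocallyOfFiniteType.jacobsonSpace p'
  have hη : g (genericPoint X') = genericPoint Y' :=
    H29DoubleCover.apply_genericPoint hdY.le g (H29DoubleCover.exists_ne_of_isFinite hdX g)
  have h := genus_le q' hdY hdX _ p' g (pullback.lift_snd _ _ _) hη rfl
  rwa [H29DoubleCover.genus_bc q q' _ (IsPullback.of_hasPullback q β),
    H29DoubleCover.genus_bc p p' _ (IsPullback.of_hasPullback p β)] at h

end Groth.Agent.H29Frob
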