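import Mathlib
import Groth.Prelude.Def_Frob
import Groth.Agent.H27Perf.Basic

/-!
# Morphisms whose pullbacks are `p`-th powers factor through the absolute Frobenius
-/

set_option autoImplicit false
set_option linter.style.haveILetI false

universe u

open CategoryTheory CategoryTheory.Limits AlgebraicGeometry TopologicalSpace FrobSch

namespace Groth.Agent.H29Frob

variable {p : ℕ} [Fact p.Prime]

/-- The absolute Frobenius of a reduced scheme can be cancelled on the left. -/
theorem cancel_frob {X Z : Scheme.{u}} [IsCharP X p] [IsReduced X] {a b : X ⟶ Z}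
    (h : frob X p ≫ a = frob X p ≫ b) : a = b := by
  have hb : a.base = b.base := by
    have := congrArg (fun g : X ⟶ Z => g.base) h
    simpa using this
  refine Scheme.Hom.ext hb fun U => ?_
  ext s
  have hU : a ⁻¹ᵁ U = b ⁻¹ᵁ U := by
    ext x
    show a.base x ∈ U ↔ b.base x ∈ U
    rw [hb]
  have hinj : Function.Injective (powHom p Γ(X, b ⁻¹ᵁ U) (natCast_eq_zero_app X p _)) :=
    (injective_iff_map_eq_zero _).2 fun y hy => pow_eq_zero_iff (Fact.out : p.Prime).ne_zero |>.1 hy
  refine hinj ?_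
  show (X.presheaf.map (eqToHom _).op (a.app U s)) ^ p = (b.app U s) ^ p
  have h1 := ConcreteCategory.congr_hom (Scheme.Hom.congr_app h U) s
  have h2 : (a.app U s) ^ p = X.presheaf.map (eqToHom hU).op ((b.app U s) ^ p) := h1
  rw [← map_pow]
  exact (congrArg _ h2).trans (by
    rw [← CommRingCat.comp_apply, ← Functor.map_comp, ← op_comp, eqToHom_trans, eqToHom_refl, op_id,
      CategoryTheory.Functor.map_id]
    rfl)

/-- If every function pulled back along `f` to the normal scheme `X` has a `p`-th root among the rational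
functions, then `f` factors through the absolute Frobenius. -/
theorem exists_root {X Y : Scheme.{u}} [IsIntegral X] [IsCharP X p]
    (hN : ∀ V : X.Opens, IsAffineOpen V → IsIntegrallyClosed Γ(X, V)) (f : X ⟶ Y)
    (hroot : ∀ (U : Y.Opens) (V : X.Opens) (e : V ≤ f ⁻¹ᵁ U) [Nonempty V], IsAffineOpen U → IsAffineOpen V →
      ∀ s : Γ(Y, U), ∃ y : X.functionField, y ^ p = X.germToFunctionField V (f.appLE U V e s)) :
    ∃ h : X ⟶ Y, frob X p ≫ h = f := by
  classical
  have hp : p.Prime := Fact.out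
  have hloc : ∀ x : X, ∃ (V : X.Opens) (g : V.toScheme ⟶ Y), x ∈ V ∧
      (haveI : IsCharP V.toScheme p := IsCharP.of_hom V.ι p; frob V.toScheme p ≫ g = V.ι ≫ f) := by
    intro x
    obtain ⟨U, hU, hxU, -⟩ := exists_isAffineOpen_mem_and_subset (show f x ∈ (⊤ : Y.Opens) from trivial)
    obtain ⟨V, hV, hxV, e⟩ := exists_isAffineOpen_mem_and_subset (show x ∈ f ⁻¹ᵁ U from hxU)
    haveI : Nonempty V := ⟨⟨x, hxV⟩⟩
    haveI := hN V hV
    haveI := functionField_isFractionRing_of_isAffineOpen X V hV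
    haveI : IsReduced V.toScheme := inferInstance
    have h0 := natCast_eq_zero_app X p V
    let π := powHom p Γ(X, V) h0
    have hinj : Function.Injective π := (injective_iff_map_eq_zero π).2 fun y hy =>
      pow_eq_zero_iff hp.ne_zero |>.1 hy
    have hex : ∀ s : Γ(Y, U), ∃ t : Γ(X, V), π t = f.appLE U V e s := fun s => by
      obtain ⟨y, hy⟩ := hroot U V e hU hV s
      have hint : IsIntegral Γ(X, V) y := ⟨Polynomial.X ^ p - Polynomial.C (f.appLE U V e s),
        Polynomial.monic_X_pow_sub_C _ hp.ne_zero, by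
          rw [Polynomial.eval₂_sub, Polynomial.eval₂_X_pow, Polynomial.eval₂_C, sub_eq_zero]
          exact hy⟩
      obtain ⟨t, rfl⟩ := IsIntegrallyClosed.algebraMap_eq_of_integral hint
      refine ⟨t, X.germToFunctionField_injective V ?_⟩
      rw [← hy]
      exact map_pow (X.germToFunctionField V).hom t p
    choose r hr using hex
    let ρ : Γ(Y, U) →+* Γ(X, V) :=
      { toFun := r
        map_one' := hinj (by rw [hr, map_one, map_one])
        map_mul' := fun a b => hinj (by rw [hr, map_mul, map_mul, hr, hr])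
        map_zero' := hinj (by rw [hr, map_zero, map_zero])
        map_add' := fun a b => hinj (by rw [hr, map_add, map_add, hr, hr]) }
    refine ⟨V, hV.isoSpec.hom ≫ Spec.map (CommRingCat.ofHom ρ) ≫ hU.fromSpec, hxV, ?_⟩
    haveI : IsCharP V.toScheme p := IsCharP.of_hom V.ι p
    haveI : IsCharP (Spec Γ(X, V)) p := H27Perf.isCharP_Spec_of_natCast h0
    rw [frob_comp_assoc, H27Perf.frob_Spec, ← Spec.map_comp_assoc,
      show CommRingCat.ofHom ρ ≫ CommRingCat.ofHom (powHom p Γ(X, V) H27Perf.natCast_eq_zero_of_isCharP_Spec) =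
        f.appLE U V e from CommRingCat.hom_ext (RingHom.ext hr),
      hU.SpecMap_appLE_fromSpec f hV e, hV.isoSpec_hom_fromSpec_assoc]
  choose V g hxV hg using hloc
  let 𝒱 := X.openCoverOfIsOpenCover V (top_le_iff.1 fun x _ => Opens.mem_iSup.2 ⟨x, hxV x⟩)
  let F : (i : 𝒱.I₀) → 𝒱.X i ⟶ Y := fun i => g i
  have hc : ∀ i j, pullback.fst (𝒱.f i) (𝒱.f j) ≫ F i = pullback.snd (𝒱.f i) (𝒱.f j) ≫ F j := fun (i j : X) => by
    show pullback.fst (V i).ι (V j).ι ≫ g i = pullback.snd (V i).ι (V j).ι ≫ g j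
    haveI : IsCharP (V i).toScheme p := IsCharP.of_hom (V i).ι p
    haveI : IsCharP (V j).toScheme p := IsCharP.of_hom (V j).ι p
    haveI : IsCharP (pullback (V i).ι (V j).ι) p := IsCharP.of_hom (pullback.fst (V i).ι (V j).ι ≫ (V i).ι) p
    haveI : IsReduced (pullback (V i).ι (V j).ι) :=
      isReduced_of_isOpenImmersion (pullback.fst (V i).ι (V j).ι ≫ (V i).ι)
    refine cancel_frob (p := p) ?_
    rw [frob_comp_assoc, frob_comp_assoc, hg, hg, pullback.condition_assoc]
  refine ⟨𝒱.glueMorphisms F hc, 𝒱.hom_ext _ _ fun (i : X) => ?_⟩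
  haveI : IsCharP (V i).toScheme p := IsCharP.of_hom (V i).ι p
  show (V i).ι ≫ frob X p ≫ 𝒱.glueMorphisms F hc = (V i).ι ≫ f
  rw [← frob_comp_assoc, ← hg i]
  exact congrArg (frob (V i).toScheme p ≫ ·) (Scheme.Cover.ι_glueMorphisms 𝒱 F hc i)

end Groth.Agent.H29Frob
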